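/-
The kernel functions checked for the automorphisms of Fi23.
-/
import Cfsg.Agent.Lib.CosetEnum.AutCent
import Cfsg.Agent.Lib.CosetEnum.Fi31671.Data
import Cfsg.Agent.Lib.CosetEnum.Fi23Class.Data
import Cfsg.Agent.Lib.CosetEnum.Fi23Aut.Data

set_option autoImplicit false
set_option maxRecDepth 1000000

namespace CfsgLib.CosetEnum.Fi23Aut

/-- The permutation of the element of order 13. -/
noncomputable def xf (d : ℕ) : ℕ := entry xt (nat_lit 64) (nat_lit 20) d

/-- The check at a point of the element of order 13. -/
noncomputable def fX (d : ℕ) : Bool := okXPoint Fi31671.table 10 xw xf Fi23Class.zf 13 [0, fA, fB] d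

/-- The check at a point of the reduction. -/
noncomputable def fR (d : ℕ) : Bool := okReach Fi31671.table 10 xf Fi23Class.zf reach reps pt ptw d

/-- The check at a point of the generator 7. -/
noncomputable def fJ (d : ℕ) : Bool :=
  Nat.beq (conjMap Fi31671.table 10 Fi23Class.zf jw d) (Fi31671.table.act 10 d 7)

end CfsgLib.CosetEnum.Fi23Aut
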