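/-
Checks of the automorphism certificate of Fi23 on a range of points.
-/
import Cfsg.Agent.Lib.CosetEnum.AutCent
import Cfsg.Agent.Lib.CosetEnum.Fi31671.Data
import Cfsg.Agent.Lib.CosetEnum.Fi23Class.Data
import Cfsg.Agent.Lib.CosetEnum.Fi23Aut.Data
import Cfsg.Agent.Lib.CosetEnum.Fi23Aut.Fun

set_option autoImplicit false
set_option maxRecDepth 1000000

namespace CfsgLib.CosetEnum.Fi23Aut

theorem x1_ok : okRange fX 4000 4000 = true := by decide +kernel

theorem r1_ok : okRange fR 4000 4000 = true := by decide +kernel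

theorem j1_ok : okRange fJ 4000 4000 = true := by decide +kernel

end CfsgLib.CosetEnum.Fi23Aut
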