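/-
The checks of the automorphism certificate of Fi23 at every point.
-/
import Cfsg.Agent.Lib.CosetEnum.Fi23Aut.Check0
import Cfsg.Agent.Lib.CosetEnum.Fi23Aut.Check1
import Cfsg.Agent.Lib.CosetEnum.Fi23Aut.Check2
import Cfsg.Agent.Lib.CosetEnum.Fi23Aut.Check3
import Cfsg.Agent.Lib.CosetEnum.Fi23Aut.Check4
import Cfsg.Agent.Lib.CosetEnum.Fi23Aut.Check5
import Cfsg.Agent.Lib.CosetEnum.Fi23Aut.Check6
import Cfsg.Agent.Lib.CosetEnum.Fi23Aut.Check7

set_option autoImplicit false

namespace CfsgLib.CosetEnum.Fi23Aut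

theorem x_ok : ∀ d < 31671, fX d = true :=
  (okRange_sound x7_ok (okRange_sound x6_ok (okRange_sound x5_ok (okRange_sound x4_ok (okRange_sound x3_ok (okRange_sound x2_ok (okRange_sound x1_ok (okRange_sound x0_ok (fun d hd => absurd hd (Nat.not_lt_zero d))))))))))

theorem r_ok : ∀ d < 31671, fR d = true :=
  (okRange_sound r7_ok (okRange_sound r6_ok (okRange_sound r5_ok (okRange_sound r4_ok (okRange_sound r3_ok (okRange_sound r2_ok (okRange_sound r1_ok (okRange_sound r0_ok (fun d hd => absurd hd (Nat.not_lt_zero d))))))))))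

theorem j_ok : ∀ d < 31671, fJ d = true :=
  (okRange_sound j7_ok (okRange_sound j6_ok (okRange_sound j5_ok (okRange_sound j4_ok (okRange_sound j3_ok (okRange_sound j2_ok (okRange_sound j1_ok (okRange_sound j0_ok (fun d hd => absurd hd (Nat.not_lt_zero d))))))))))

end CfsgLib.CosetEnum.Fi23Aut
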