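/-
Every automorphism of the presented Fi23 is inner.
-/
import Cfsg.Agent.Lib.CosetEnum.Fi23Class.Main
import Cfsg.Agent.Lib.CosetEnum.Fi23Aut.Checks
import Cfsg.Agent.S1697

set_option autoImplicit false
set_option maxRecDepth 1000000

namespace CfsgLib.CosetEnum.Fi23Aut

open Cfsg CfsgLib.CosetEnum

theorem hid : ∀ i < presFi23.k, presFi23.idx (presFi23.gen i) = i := by decide

theorem hinj : Function.Injective (Fi31671.cert.hom Fi31671.hlt) := by
  haveI : Finite presFi23.Grp := Cfsg.Agent.S1697.upper.1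
  exact Fi31671.cert.hom_injective Fi31671.hlt (Fi31671.cert.card_le_of_fixSub Fi31671.hlt
    (Cfsg.Agent.S1697.lower (Fi31671.cert.ker_le_fixSub Fi31671.hlt _))) Cfsg.Agent.S1697.upper.2

/-- The transposition at the base point. -/
noncomputable def tz : presFi23.Grp := (Fi23Class.zw.map presFi23.σ).prod

/-- The element of order 13. -/
noncomputable def xe : presFi23.Grp := (xw.reverse.map presFi23.σ).prod

theorem card_grp : Nat.card presFi23.Grp = 4089470473293004800 := Cfsg.Agent.S1697.result.2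

theorem stabIsCent : Fi31671.cert.StabIsCent Fi31671.hlt tz := by
  haveI : Finite presFi23.Grp := Cfsg.Agent.S1697.upper.1
  haveI : IsSimpleGroup presFi23.Grp := Cfsg.Agent.S1697.result.1
  exact Fi31671.cert.stabIsCent_of_centralizer Fi31671.hlt hid Fi31671.hhw (Fi23Class.point_class hinj).1

theorem ext_of_points {a b : presFi23.Grp}
    (h : ∀ d, (Fi31671.cert.hom Fi31671.hlt a d : ℕ) = Fi31671.cert.hom Fi31671.hlt b d) : a = b :=
  hinj (Equiv.ext fun d => Fin.ext (h d))

theorem zw_lt : ∀ x ∈ Fi23Class.zw, x < presFi23.k := by decide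

theorem xw_lt : ∀ x ∈ xw, x < presFi23.k := by decide

theorem real_t : Fi31671.cert.Realises Fi31671.hlt tz Fi23Class.zf := fun d =>
  (Fi31671.cert.hom_word_run' Fi31671.hlt hid _ zw_lt d).trans (Fi23Class.zf_spec d d.2)

theorem x_spec (d : ℕ) (hd : d < 31671) : runT Fi31671.table 10 xw d = xf d ∧ iterN xf 13 d = d ∧
    xf (Fi23Class.zf d) = Fi23Class.zf (xf d) ∧ (xf d = d → d = 0 ∨ d = fA ∨ d = fB) := by
  have h := x_ok d hd
  simp only [fX, okXPoint, force_eq, Bool.and_eq_true] at h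
  refine ⟨Nat.eq_of_beq_eq_true h.1.1, Nat.eq_of_beq_eq_true h.1.2, Nat.eq_of_beq_eq_true h.2.1, fun e => ?_⟩
  have h' := h.2.2
  rw [e, show Nat.beq d d = true from Nat.beq_refl d] at h'
  simp only [List.any_cons, List.any_nil, Bool.or_eq_true, Bool.false_eq_true, or_false] at h'
  rcases h' with h' | h' | h'
  · exact Or.inl (Nat.eq_of_beq_eq_true h').symm
  · exact Or.inr (Or.inl (Nat.eq_of_beq_eq_true h').symm)
  · exact Or.inr (Or.inr (Nat.eq_of_beq_eq_true h').symm)

theorem real_x : Fi31671.cert.Realises Fi31671.hlt xe xf := fun d =>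
  (Fi31671.cert.hom_rev Fi31671.hlt hid xw xw_lt d).trans (x_spec d d.2).1

theorem t_sq : tz * tz = 1 := ext_of_points fun d => by
  rw [map_mul, Equiv.Perm.mul_apply, real_t, real_t, map_one, Equiv.Perm.one_apply]
  have h := Fi23Class.class_ok d d.2
  simp only [okClassPoint, force_eq, Bool.and_eq_true] at h
  exact Nat.eq_of_beq_eq_true h.1.1

theorem x_pow : xe ^ 13 = 1 := ext_of_points fun d => by
  rw [Cert.realises_pow _ _ real_x, map_one, Equiv.Perm.one_apply]
  exact (x_spec d d.2).2.1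

theorem x_t : xe * tz = tz * xe := ext_of_points fun d => by
  rw [map_mul, Equiv.Perm.mul_apply, real_x, real_t, map_mul, Equiv.Perm.mul_apply, real_t, real_x]
  exact (x_spec d d.2).2.2.1

theorem x_moves : xf pt ≠ pt := Nat.ne_of_beq_eq_false (by decide +kernel)

theorem pt_lt : pt < 31671 := by decide

theorem x_ne : xe ≠ 1 := fun e => x_moves <| by
  have h := real_x ⟨pt, pt_lt⟩
  rw [e, map_one, Equiv.Perm.one_apply] at h
  exact h.symm

theorem x_order : orderOf xe = 13 := by
  haveI : Fact (Nat.Prime 13) := ⟨by norm_num⟩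
  exact orderOf_eq_prime x_pow x_ne

theorem t_ne : tz ≠ 1 := by
  intro e
  obtain ⟨d, hd, hne⟩ := Fi23Class.moved.1
  apply hne
  have hg : ∀ x ∈ Fi23Class.g, x < presFi23.k := by decide
  have h := Fi31671.cert.realises_conj Fi31671.hlt hid real_t Fi23Class.g hg ⟨d, hd⟩
  rw [e, mul_one, mul_inv_cancel, ← e, real_t ⟨d, hd⟩] at h
  exact h.symm

/-! ### The points of the generators -/

/-- The point of a generator. -/
def qOf (x : ℕ) : ℕ := genPts.getD x 0

theorem qOf_lt : ∀ x < 10, qOf x < 31671 := by decide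

theorem jw_lt : ∀ x ∈ jw, x < presFi23.k := by decide

theorem pt_seven : Fi31671.cert.IsPt Fi31671.hlt tz (presFi23.σ 7) ⟨qOf 7, qOf_lt 7 (by norm_num)⟩ := by
  have h := Fi31671.cert.isPt_word Fi31671.hlt hid (t := tz) jw jw_lt (qOf_lt 7 (by norm_num))
    (Nat.eq_of_beq_eq_true (by decide +kernel))
  have e : (jw.map presFi23.σ).prod * tz * ((jw.map presFi23.σ).prod)⁻¹ = presFi23.σ 7 := ext_of_points fun d => by
    rw [Fi31671.cert.realises_conj Fi31671.hlt hid real_t jw jw_lt d,
      Fi31671.cert.hom_act Fi31671.hlt hid (show 7 < presFi23.k by decide)]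
    exact Nat.eq_of_beq_eq_true (j_ok d d.2)
  rwa [e] at h

theorem braid {x y : ℕ} (hm : coxWord x y 3 ∈ presFi23.rels) :
    presFi23.σ x * presFi23.σ y * presFi23.σ x = presFi23.σ y * presFi23.σ x * presFi23.σ y := by
  have h := presFi23.rels_one hm
  rw [prod_coxWord] at h
  have ix := inv_eq_of_mul_eq_one_right (presFi23.σ_sq x)
  have iy := inv_eq_of_mul_eq_one_right (presFi23.σ_sq y)
  have h' : presFi23.σ x * presFi23.σ y * presFi23.σ x * (presFi23.σ y * presFi23.σ x * presFi23.σ y) = 1 := by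
    rw [← h]; simp only [pow_succ, pow_zero, one_mul, mul_assoc]
  rw [eq_inv_of_mul_eq_one_left h', mul_inv_rev, mul_inv_rev, ix, iy, mul_assoc]

theorem braid' {x y : ℕ} (hm : coxWord x y 3 ∈ presFi23.rels ∨ coxWord y x 3 ∈ presFi23.rels) :
    presFi23.σ x * presFi23.σ y * presFi23.σ x = presFi23.σ y * presFi23.σ x * presFi23.σ y := by
  rcases hm with h | h
  · exact braid h
  · exact (braid h).symm

theorem pt_step {x y : ℕ} (hx : x < 10) (hy : y < 10)
    (h : Fi31671.cert.IsPt Fi31671.hlt tz (presFi23.σ x) ⟨qOf x, qOf_lt x hx⟩)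
    (hm : coxWord x y 3 ∈ presFi23.rels ∨ coxWord y x 3 ∈ presFi23.rels)
    (hr : Nat.beq (runT Fi31671.table 10 [y, x] (qOf x)) (qOf y) = true) :
    Fi31671.cert.IsPt Fi31671.hlt tz (presFi23.σ y) ⟨qOf y, qOf_lt y hy⟩ :=
  Fi31671.cert.isPt_braid Fi31671.hlt hid (x := x) (y := y) hx hy (braid' hm) h (Nat.eq_of_beq_eq_true hr)

theorem edge_rels : ∀ e ∈ ([(7, 6), (6, 5), (5, 4), (4, 3), (3, 2), (2, 1), (1, 0), (3, 8), (8, 9)] : List (ℕ × ℕ)),
    coxWord e.1 e.2 3 ∈ presFi23.rels ∨ coxWord e.2 e.1 3 ∈ presFi23.rels := by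
  rw [Fi31671.rels_eq]; decide +kernel

theorem pt_gen : ∀ x, ∀ hx : x < 10, Fi31671.cert.IsPt Fi31671.hlt tz (presFi23.σ x) ⟨qOf x, qOf_lt x hx⟩ := by
  have p7 := pt_seven
  have p6 := pt_step (x := 7) (y := 6) (by norm_num) (by norm_num) p7 (edge_rels (7, 6) (by decide)) (by decide +kernel)
  have p5 := pt_step (x := 6) (y := 5) (by norm_num) (by norm_num) p6 (edge_rels (6, 5) (by decide)) (by decide +kernel)
  have p4 := pt_step (x := 5) (y := 4) (by norm_num) (by norm_num) p5 (edge_rels (5, 4) (by decide)) (by decide +kernel)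
  have p3 := pt_step (x := 4) (y := 3) (by norm_num) (by norm_num) p4 (edge_rels (4, 3) (by decide)) (by decide +kernel)
  have p2 := pt_step (x := 3) (y := 2) (by norm_num) (by norm_num) p3 (edge_rels (3, 2) (by decide)) (by decide +kernel)
  have p1 := pt_step (x := 2) (y := 1) (by norm_num) (by norm_num) p2 (edge_rels (2, 1) (by decide)) (by decide +kernel)
  have p0 := pt_step (x := 1) (y := 0) (by norm_num) (by norm_num) p1 (edge_rels (1, 0) (by decide)) (by decide +kernel)
  have p8 := pt_step (x := 3) (y := 8) (by norm_num) (by norm_num) p3 (edge_rels (3, 8) (by decide)) (by decide +kernel)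
  have p9 := pt_step (x := 8) (y := 9) (by norm_num) (by norm_num) p8 (edge_rels (8, 9) (by decide)) (by decide +kernel)
  intro x hx
  interval_cases x <;> assumption

/-- The configuration. -/
def conf : List (ℕ × ℕ) := ord.map fun x => (x, qOf x)

theorem conf_mem {a : ℕ × ℕ} (ha : a ∈ conf) : ∃ x, x < 10 ∧ a = (x, qOf x) := by
  obtain ⟨x, hx, rfl⟩ := List.mem_map.mp ha
  exact ⟨x, (show ∀ x ∈ ord, x < 10 by decide) x hx, rfl⟩

theorem config : Fi31671.cert.Config Fi31671.hlt tz conf where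
  lt a ha := by obtain ⟨x, hx, rfl⟩ := conf_mem ha; exact ⟨hx, qOf_lt x hx⟩
  pt a ha := by obtain ⟨x, hx, rfl⟩ := conf_mem ha; exact pt_gen x hx
  nodup := by decide

theorem conf_all : ∀ x < 10, (x, qOf x) ∈ conf := by decide

theorem central_one {g : presFi23.Grp} (h : ∀ a ∈ conf, g * presFi23.σ a.1 = presFi23.σ a.1 * g) : g = 1 := by
  haveI : IsSimpleGroup presFi23.Grp := Cfsg.Agent.S1697.result.1
  have hc : g ∈ Subgroup.center presFi23.Grp := by
    rw [Subgroup.mem_center_iff]
    intro y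
    have : Subgroup.closure (presFi23.σ '' Set.Iio presFi23.k) ≤ Subgroup.centralizer ({g} : Set presFi23.Grp) := by
      rw [Subgroup.closure_le]
      rintro _ ⟨x, hx, rfl⟩
      exact Subgroup.mem_centralizer_singleton_iff.mpr (h _ (conf_all x hx)).symm
    rw [presFi23.gen_closure] at this
    exact Subgroup.mem_centralizer_singleton_iff.mp (this (Subgroup.mem_top y))
  rcases (inferInstance : (Subgroup.center presFi23.Grp).Normal).eq_bot_or_eq_top with hb | ht
  · rwa [hb, Subgroup.mem_bot] at hc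
  exfalso
  have hmem : tz ∈ Subgroup.center presFi23.Grp := by rw [ht]; trivial
  obtain ⟨d, hd, hne⟩ := Fi23Class.moved.1
  apply hne
  have hg : ∀ x ∈ Fi23Class.g, x < presFi23.k := by decide
  have hh := Fi31671.cert.realises_conj Fi31671.hlt hid real_t Fi23Class.g hg ⟨d, hd⟩
  rw [Subgroup.mem_center_iff.mp hmem, mul_inv_cancel_right, real_t ⟨d, hd⟩] at hh
  exact hh.symm

theorem preStab_bot : Fi31671.cert.preStab Fi31671.hlt conf = ⊥ := by
  rw [eq_bot_iff]
  intro g hg
  refine Subgroup.mem_bot.mpr (central_one fun a ha => ?_)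
  exact (Fi31671.cert.isPt_fix Fi31671.hlt stabIsCent (config.pt a ha) g).mp (hg _ (List.mem_map_of_mem ha))

theorem counts_ok : okCounts Fi31671.table 10 [] conf cnts = true := by decide +kernel

theorem steps_ok : okDerive Fi31671.table 10 xf Fi23Class.zf [0, pt] steps (conf.map Prod.snd) = true := by
  decide +kernel

theorem ptw_ok : runT Fi31671.table 10 ptw.reverse 0 = pt := Nat.eq_of_beq_eq_true (by decide +kernel)

theorem fA_ok : runT Fi31671.table 10 fAw.reverse 0 = fA ∧ xf fA = fA ∧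
    conjMap Fi31671.table 10 Fi23Class.zf fAw fB = 0 :=
  ⟨Nat.eq_of_beq_eq_true (by decide +kernel), Nat.eq_of_beq_eq_true (by decide +kernel),
    Nat.eq_of_beq_eq_true (by decide +kernel)⟩

theorem fB_ok : runT Fi31671.table 10 fBw.reverse 0 = fB ∧ xf fB = fB ∧
    conjMap Fi31671.table 10 Fi23Class.zf fBw fA = 0 :=
  ⟨Nat.eq_of_beq_eq_true (by decide +kernel), Nat.eq_of_beq_eq_true (by decide +kernel),
    Nat.eq_of_beq_eq_true (by decide +kernel)⟩

theorem invol_mem (s : presFi23.Grp) (hs2 : s * s = 1) (hs1 : s ≠ 1) (hsx : s * xe = xe * s) :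
    s ∈ conjugatesOf tz :=
  Fi31671.cert.invol_cent_mem Fi31671.hlt hid stabIsCent real_t real_x x_t t_sq (q := 13) (by decide) x_pow
    (fun g hgt hgx => Fi31671.cert.cent_eq Fi31671.hlt hid stabIsCent real_t real_x x_t reach reps
      (p := ⟨pt, pt_lt⟩) ptw (by decide) ptw_ok x_moves r_ok steps config steps_ok (fun g h => central_one h) hgt hgx)
    (A := ⟨fA, show fA < 31671 by decide⟩) (B := ⟨fB, show fB < 31671 by decide⟩) fAw fBw (by decide) (by decide)
    fA_ok.1 fB_ok.1 fA_ok.2.1 fB_ok.2.1 (fun e => absurd (congrArg Fin.val e) (show fA ≠ fB by decide))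
    (show fA ≠ 0 by decide) (show fB ≠ 0 by decide) fA_ok.2.2 fB_ok.2.2
    (fun d hd => by
      rcases (x_spec d d.2).2.2.2 hd with h | h | h
      · exact Or.inl h
      · exact Or.inr (Or.inl (Fin.ext h))
      · exact Or.inr (Or.inr (Fin.ext h)))
    hs2 hs1 hsx

/-- **Every automorphism of the presented Fi23 is inner.** -/
theorem aut_inner (α : presFi23.Grp ≃* presFi23.Grp) : ∃ g : presFi23.Grp, ∀ y, α y = g * y * g⁻¹ := by
  haveI : Finite presFi23.Grp := Cfsg.Agent.S1697.upper.1
  haveI : Fact (Nat.Prime 13) := ⟨by norm_num⟩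
  have hmem : α tz ∈ conjugatesOf tz :=
    Cert.aut_mem (q := 13) x_order (by rw [card_grp]; decide +kernel) x_t t_sq t_ne invol_mem α
  obtain ⟨g, hg⟩ := Fi31671.cert.exists_conj_of_counts Fi31671.hlt hid stabIsCent config preStab_bot cnts counts_ok
    (by rw [card_grp]; decide +kernel) α hmem
  refine ⟨g, fun y => ?_⟩
  have : α.toMonoidHom = (MulAut.conj g).toMonoidHom := by
    refine MonoidHom.eq_of_eqOn_dense presFi23.gen_closure ?_
    rintro _ ⟨x, hx, rfl⟩
    exact hg _ (conf_all x hx)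
  exact DFunLike.congr_fun this y

end CfsgLib.CosetEnum.Fi23Aut
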